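import Cfsg.Agent.MQ.S.M35.Loc
import Cfsg.Agent.MK.S1.Cov_m3
import Cfsg.Agent.MQ.S.E62Y.Dat
import Cfsg.Agent.MQ.S.B.Tri
import Cfsg.Agent.H588.RIM.Val_m3
import Cfsg.Agent.H608.PerfComp
import Cfsg.Agent.S0157
import Cfsg.Agent.Lib.ListFast
import Cfsg.Agent.FastGrp
import Cfsg.Agent.Prune
set_option linter.all false
prune_inst 0x7f00000000000000000000000000000000000000000000000000000000000000000000000000000000000000000000000000000000000000000000000000000000000000000000000000000000000000003fffffffffffffffffffffffffffbeffbdfbfeffff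
open scoped Cfsg.Agent.FastGrp

-- part: MO/S/Mat/Loc
section
/-!
# MO, the Mathieu groups for `p = 3`: the local counts (helper93)

* `loc9` : the groups between `M11` and the stabiliser of a point; `m11_1_3`, `m23_1_3`;
* `loc12`, `loc24` : the normalisers of `3^(1+2)` in `M12` and `M24`; `m24_1_3`.
-/

set_option autoImplicit false
set_option maxRecDepth 100000

namespace Cfsg.Agent.MO.S

open Cfsg Subgroup Cfsg.Agent.MO.T Cfsg.Agent.TAB.Eng Cfsg.Agent.TAB.Sm2
open Cfsg.Agent.SporadicA.GolayBase Cfsg.Agent.SporadicA.GolayPerm Cfsg.Agent.SporadicStructure.M24El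
open Cfsg.Agent.MK.S1 (fin24 mem_range12 center_of_simple)
open scoped Pointwise commutatorElement

namespace Mat

instance instFactThree : Fact (Nat.Prime 3) := ⟨Nat.prime_three⟩

/-! ### fast forms of the checks -/

private def pa (P i : ℕ) : ℕ := Nat.mod (Nat.shiftRight P (Nat.mul 5 i)) 32

private noncomputable def pc (P Q : ℕ) : ℕ :=
  List.rec 0 (fun i _ ih => Nat.add (pa P (pa Q i)) (Nat.mul 32 ih))
    [0, 1, 2, 3, 4, 5, 6, 7, 8, 9, 10, 11, 12, 13, 14, 15, 16, 17, 18, 19, 20, 21, 22, 23]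

private theorem pack_map (f : ℕ → ℕ) (l : List ℕ) :
    pack (l.map f) = List.rec 0 (fun i _ ih => Nat.add (f i) (Nat.mul 32 ih)) l := by
  induction l with
  | nil => rfl
  | cons a l ih => exact congrArg (fun x => f a + 32 * x) ih

private theorem pc_eq (P Q : ℕ) : pcomp P Q = pc P Q :=
  Eq.trans (b := pack (List.map (fun i => papp P (papp Q i))
    [0, 1, 2, 3, 4, 5, 6, 7, 8, 9, 10, 11, 12, 13, 14, 15, 16, 17, 18, 19, 20, 21, 22, 23])) (congrArg pack rfl) (pack_map _ _)

private noncomputable def pw (gl w : List ℕ) : ℕ := List.rec idP (fun i _ ih => frc ih (pc (gl.getD i idP))) w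

private theorem pw_eq : prodW = pw := by
  funext gl w
  induction w with
  | nil => rfl
  | cons i w ih => exact ((congrArg (pcomp (gl.getD i idP)) ih).trans (pc_eq _ _)).trans (frc_eq _ (pc (gl.getD i idP))).symm

private noncomputable def cmF (S : List ℕ) (a b : ℕ) : Bool :=
  List.rec true (fun s _ ih => cond (Nat.beq (pa a (pa b s)) (pa b (pa a s))) ih false) S

private theorem cm_eq (S : List ℕ) (a b : ℕ) : cm S a b = cmF S a b := by
  induction S with
  | nil => rfl
  | cons s S ih =>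
    show ((pa a (pa b s) == pa b (pa a s)) && cm S a b) = cond (Nat.beq _ _) (cmF S a b) false
    rw [ih]
    cases h : Nat.beq (pa a (pa b s)) (pa b (pa a s))
    · rw [beq_false_of_ne (Nat.ne_of_beq_eq_false h)]; rfl
    · rw [Nat.eq_of_beq_eq_true h, beq_self_eq_true]; rfl

private noncomputable def cmR (S : List ℕ) (a : ℕ) (T : List ℕ) : ℕ := List.rec 0 (fun b _ ih => cond (cmF S a b) (Nat.succ ih) ih) T

private theorem cmR_eq (S : List ℕ) (a : ℕ) (T : List ℕ) : (T.map fun b => if cm S a b then 1 else 0).sum = cmR S a T := by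
  induction T with
  | nil => rfl
  | cons b T ih =>
    show (if cm S a b then 1 else 0) + (T.map fun b => if cm S a b then 1 else 0).sum = cond (cmF S a b) (cmR S a T + 1) (cmR S a T)
    rw [ih, cm_eq]
    cases cmF S a b
    · exact Nat.zero_add _
    · exact Nat.add_comm _ _

private noncomputable def cmG (S T : List ℕ) : ℕ := (T.map fun a => cmR S a T).sum

private theorem cmt_eq : cmt = cmG := funext fun S => funext fun T =>
  congrArg (fun f => (List.map f T).sum) (funext fun a => cmR_eq S a T)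

private noncomputable def ndF (l : List ℕ) : ℕ → Bool :=
  List.rec (fun _ => true) (fun a _ ih M => cond (Nat.testBit M a) false (ih (Nat.lor M (Nat.shiftLeft 1 a)))) l

private theorem ndF_spec (l : List ℕ) : ∀ M, ndF l M = true → l.Nodup ∧ ∀ a ∈ l, Nat.testBit M a = false := by
  induction l with
  | nil => exact fun _ _ => ⟨List.nodup_nil, nofun⟩
  | cons a l ih =>
    intro M h
    have h1 : cond (Nat.testBit M a) false (ndF l (M ||| 1 <<< a)) = true := h
    cases h2 : Nat.testBit M a <;> rw [h2] at h1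
    · obtain ⟨h3, h4⟩ := ih _ h1
      simp only [Nat.testBit_or, Bool.or_eq_false_iff, Nat.one_shiftLeft, Nat.testBit_two_pow, decide_eq_false_iff_not] at h4
      exact ⟨List.nodup_cons.2 ⟨fun h5 => (h4 a h5).2 rfl, h3⟩, List.forall_mem_cons.2 ⟨h2, fun b hb => (h4 b hb).1⟩⟩
    · exact nomatch h1

private theorem ct_of {gl S : List ℕ} {sp : List (ℕ × ℕ)} {n k : ℕ} (h : frcL ((wds sp).map (pw gl)) (fun T =>
    ndF (T.map fun t => Nat.mod (pack (ky S t)) 100003) 0 && T.length == n && cmG S T == k) = true) :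
    frcL (lst gl sp) (fun T => decide ((T.map (ky S)).Nodup) && T.length == n && cmt S T == k) = true := by
  rw [frcL_eq, ← pw_eq, ← cmt_eq, Bool.and_eq_true, Bool.and_eq_true] at h
  rw [frcL_eq, Bool.and_eq_true, Bool.and_eq_true]
  refine ⟨⟨decide_eq_true (List.Nodup.of_map (fun l => Nat.mod (pack l) 100003) ?_), h.1.2⟩, h.2⟩
  rw [List.map_map]
  exact (ndF_spec _ _ h.1.1).1

private noncomputable def mv (P m n : ℕ) : Bool :=
  Nat.rec false (fun i ih => cond (Nat.beq (Nat.mod (Nat.shiftRight m (pa P i)) 2) (Nat.mod (Nat.shiftRight m i) 2)) ih true) n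

private theorem mv_fix {P m : ℕ} (hP : isPerm P = true) (h : pimg P m = m) : ∀ n ≤ 24, mv P m n = false
  | 0, _ => rfl
  | n + 1, hn => by
    have h1 := testBit_pimg_papp hP m (show n < 24 from hn)
    show cond (Nat.beq ((m >>> papp P n) % 2) ((m >>> n) % 2)) (mv P m n) true = false
    rw [← ite_testBit, ← ite_testBit, ← h1, h, Nat.beq_refl, mv_fix hP h n (Nat.le_of_succ_le hn)]
    rfl

private def e0 (i : ℕ) : ℕ :=
  (Nat.xor (Nat.xor (Nat.xor (Nat.xor (Nat.xor (Nat.xor (Nat.xor (Nat.xor (Nat.xor (Nat.xor (Nat.xor (Nat.mul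
    (Nat.mod i 2) 13062145) (Nat.mul (Nat.mod (Nat.shiftRight i 1) 2) 4845570)) (Nat.mul (Nat.mod (Nat.shiftRight i
    2) 2) 13938692)) (Nat.mul (Nat.mod (Nat.shiftRight i 3) 2) 7221256)) (Nat.mul (Nat.mod (Nat.shiftRight i 4) 2)
    10170384)) (Nat.mul (Nat.mod (Nat.shiftRight i 5) 2) 11952160)) (Nat.mul (Nat.mod (Nat.shiftRight i 6) 2)
    15515712)) (Nat.mul (Nat.mod (Nat.shiftRight i 7) 2) 2019456)) (Nat.mul (Nat.mod (Nat.shiftRight i 8) 2)
    4038912)) (Nat.mul (Nat.mod (Nat.shiftRight i 9) 2) 8077824)) (Nat.mul (Nat.mod (Nat.shiftRight i 10) 2)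
    11654144)) (Nat.mul (Nat.mod (Nat.shiftRight i 11) 2) 14919680))

private theorem e0_eq (i : ℕ) : enc i = e0 i := rfl

private noncomputable def alF (g : ℕ → Bool) (n : ℕ) : Bool := Nat.rec true (fun i ih => cond (g i) ih false) n

private theorem alF_spec {g : ℕ → Bool} : ∀ n, alF g n = true → ∀ i < n, g i = true
  | n + 1, h, i, hi => by
    have h1 : cond (g n) (alF g n) false = true := h
    rw [Bool.cond_false_right, Bool.and_eq_true] at h1
    rcases Nat.lt_succ_iff_lt_or_eq.1 hi with h2 | rfl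
    exacts [alF_spec n h1.2 i h2, h1.1]

private noncomputable def ddG (a b m : ℕ) : Bool :=
  cond (mv a m 24) true (cond (mv b m 24) true (Nat.beq m 340831 || Nat.beq m 16436384 || !Nat.beq (popcount m) 12))

private theorem ddG_spec {a b m : ℕ} (ha : isPerm a = true) (hb : isPerm b = true) (h : ddG a b m = true)
    (h3 : popcount m = 12) (h4 : pimg a m = m) (h5 : pimg b m = m) : m = 340831 ∨ m = 16436384 := by
  rw [ddG, mv_fix ha h4 24 le_rfl, mv_fix hb h5 24 le_rfl, h3, cond_false, cond_false, Nat.beq_refl, Bool.not_true, Bool.or_false,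
    Bool.or_eq_true] at h
  exact h.imp Nat.eq_of_beq_eq_true Nat.eq_of_beq_eq_true

private theorem dd_of {a b : ℕ} (h : (ok a && ok b && alF (fun i => frc (e0 i) (ddG a b)) 4096) = true) : (ok a && ok b &&
    (cwL 12 0 0).all fun m => m == 340831 || m == 16436384 || pimg a m != m || pimg b m != m) = true := by
  simp only [Bool.and_eq_true, List.all_eq_true, Bool.or_eq_true, beq_iff_eq, bne_iff_ne] at h ⊢
  refine ⟨h.1, fun m hm => ?_⟩
  obtain ⟨h1, h2, -⟩ := mem_cwL.1 hm
  obtain ⟨i, hi, rfl⟩ := isCode_iff_exists.1 h1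
  by_cases h3 : pimg a (enc i) = enc i
  · by_cases h4 : pimg b (enc i) = enc i
    · have h5 := alF_spec _ h.2 i hi
      rw [frc_eq, ← e0_eq] at h5
      exact .inl (.inl (ddG_spec (ok_iff.1 h.1.1).1 (ok_iff.1 h.1.2).1 h5 h2 h3 h4))
    · exact .inr h4
  · exact .inl (.inr h3)

/-! ### `3^2 : SD16` -/

/-- the generators of `3^2` -/
def g9 : List ℕ := [486115426764614359583170501228632096, 968998678276275476877177295058804768]

/-- the generators of the normaliser -/
def n9 : List ℕ := g9 ++ [222673763555961403536126052510286400, 652089096894960494667380851695819328]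

theorem cl9 : Cl g9 [(0, 3), (1, 3)] = true := by decide +kernel

theorem nr9 : Nr g9 [(0, 3), (1, 3)] n9 = true := by decide +kernel

private noncomputable def _root_.Cfsg.Agent.LsF.f778dc8_0 : {f // @Cfsg.Agent.MO.S.Mat.pw = f} := ⟨_, by first | (delta Cfsg.Agent.MO.S.Mat.pw; rewrite [Cfsg.Agent.LsF.getD_eq]; exact rfl) | exact rfl⟩
private noncomputable def _root_.Cfsg.Agent.LsF.f778dc8_1 : {f // @Cfsg.Agent.MO.S.Mat.n9 = f} := ⟨_, by first | (delta Cfsg.Agent.MO.S.Mat.n9; rewrite [Cfsg.Agent.LsF.lappend_pat]; exact rfl) | exact rfl⟩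
private noncomputable def _root_.Cfsg.Agent.LsF.f778dc8_2 : {f // @Cfsg.Agent.MO.S.Mat.wds = f} := ⟨_, by first | (delta Cfsg.Agent.MO.S.Mat.wds; rewrite [Cfsg.Agent.LsF.lappend_pat, Cfsg.Agent.LsF.map_eq, Cfsg.Agent.LsF.foldr_eq, Cfsg.Agent.LsF.flatMap_eq, Cfsg.Agent.LsF.replicate_eq, Cfsg.Agent.LsF.range_eq]; exact rfl) | exact rfl⟩
private noncomputable def _root_.Cfsg.Agent.LsF.f778dc8_3 : {f // @Cfsg.Agent.MO.S.Mat.ndF = f} := ⟨_, by first | (delta Cfsg.Agent.MO.S.Mat.ndF; rewrite [Cfsg.Agent.LsF.cond_eq, Cfsg.Agent.LsF.testBit_eq]; exact rfl) | exact rfl⟩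
private noncomputable def _root_.Cfsg.Agent.LsF.f778dc8_4 : {f // @Cfsg.Agent.SporadicA.GolayPerm.pack = f} := ⟨_, by first | (delta Cfsg.Agent.SporadicA.GolayPerm.pack List.brecOn List.brecOn.go Cfsg.Agent.SporadicA.GolayPerm.pack._f; rewrite [Cfsg.Agent.LsF.nadd_pat, Cfsg.Agent.LsF.nmul_pat]; (try delta Cfsg.Agent.SporadicA.GolayPerm.pack.match_1); (try delta List.casesOn); first | dsimp -zeta only | exact rfl) | exact rfl⟩
private noncomputable def _root_.Cfsg.Agent.LsF.f778dc8_5 : {f // @Cfsg.Agent.SporadicA.GolayPerm.papp = f} := ⟨_, by first | (delta Cfsg.Agent.SporadicA.GolayPerm.papp; rewrite [Cfsg.Agent.LsF.nmul_pat, Cfsg.Agent.LsF.nmod_pat, Cfsg.Agent.LsF.nshr_pat]; exact rfl) | exact rfl⟩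
private noncomputable def _root_.Cfsg.Agent.LsF.f778dc8_6 : {f // @Cfsg.Agent.MO.S.Mat.ky = f} := ⟨_, by first | (delta Cfsg.Agent.MO.S.Mat.ky; rewrite [Cfsg.Agent.LsF.f778dc8_5.2, Cfsg.Agent.LsF.map_eq]; exact rfl) | exact rfl⟩
private noncomputable def _root_.Cfsg.Agent.LsF.f778dc8_7 : {f // @Cfsg.Agent.MO.S.Mat.cmF = f} := ⟨_, by first | (delta Cfsg.Agent.MO.S.Mat.cmF; rewrite [Cfsg.Agent.LsF.cond_eq]; exact rfl) | exact rfl⟩
private noncomputable def _root_.Cfsg.Agent.LsF.f778dc8_8 : {f // @Cfsg.Agent.MO.S.Mat.cmR = f} := ⟨_, by first | (delta Cfsg.Agent.MO.S.Mat.cmR; rewrite [Cfsg.Agent.LsF.f778dc8_7.2, Cfsg.Agent.LsF.cond_eq]; exact rfl) | exact rfl⟩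
private noncomputable def _root_.Cfsg.Agent.LsF.f778dc8_9 : {f // @Cfsg.Agent.MO.S.Mat.cmG = f} := ⟨_, by first | (delta Cfsg.Agent.MO.S.Mat.cmG; rewrite [Cfsg.Agent.LsF.f778dc8_8.2, Cfsg.Agent.LsF.map_eq, Cfsg.Agent.LsF.sum_eq]; exact rfl) | exact rfl⟩
theorem ct9 : frcL (lst n9 [(0, 3), (1, 3), (2, 8), (3, 2)]) (fun T => decide ((T.map (ky [1, 2, 3])).Nodup) &&
    T.length == 144 && cmt [1, 2, 3] T == 1296) = true :=
  ct_of (by ((try (rewrite [Cfsg.Agent.LsF.f778dc8_0.2, Cfsg.Agent.LsF.f778dc8_1.2, Cfsg.Agent.LsF.f778dc8_2.2, Cfsg.Agent.LsF.f778dc8_3.2, Cfsg.Agent.LsF.f778dc8_4.2, Cfsg.Agent.LsF.f778dc8_6.2, Cfsg.Agent.LsF.f778dc8_9.2, Cfsg.Agent.LsF.nbeq_pat, Cfsg.Agent.LsF.and_eq, Cfsg.Agent.LsF.map_eq, Cfsg.Agent.LsF.length_eq])); decide +kernel))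

private noncomputable def _root_.Cfsg.Agent.LsF.f778dc8_10 : {f // @Cfsg.Agent.SporadicA.GolayPerm.pimg = f} := ⟨_, by first | (delta Cfsg.Agent.SporadicA.GolayPerm.pimg; rewrite [Cfsg.Agent.LsF.f778dc8_5.2, Cfsg.Agent.LsF.nmod_pat, Cfsg.Agent.LsF.nxor_pat, Cfsg.Agent.LsF.nshl_pat, Cfsg.Agent.LsF.nshr_pat]; exact rfl) | exact rfl⟩
private noncomputable def _root_.Cfsg.Agent.LsF.f778dc8_11 : {f // @Cfsg.Agent.SporadicA.GolayPerm.isPerm = f} := ⟨_, by first | (delta Cfsg.Agent.SporadicA.GolayPerm.isPerm; rewrite [Cfsg.Agent.LsF.f778dc8_10.2]; exact rfl) | exact rfl⟩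
private noncomputable def _root_.Cfsg.Agent.LsF.f778dc8_12 : {f // @Cfsg.Agent.SporadicA.GolayBase.enc = f} := ⟨_, by first | (delta Cfsg.Agent.SporadicA.GolayBase.enc; rewrite [Cfsg.Agent.LsF.nmul_pat, Cfsg.Agent.LsF.nmod_pat, Cfsg.Agent.LsF.nxor_pat, Cfsg.Agent.LsF.nshr_pat]; exact rfl) | exact rfl⟩
private noncomputable def _root_.Cfsg.Agent.LsF.f778dc8_13 : {f // @Cfsg.Agent.SporadicA.GolayBase.isCode = f} := ⟨_, by first | (delta Cfsg.Agent.SporadicA.GolayBase.isCode; rewrite [Cfsg.Agent.LsF.f778dc8_12.2]; exact rfl) | exact rfl⟩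
private noncomputable def _root_.Cfsg.Agent.LsF.f778dc8_14 : {f // @Cfsg.Agent.SporadicA.GolayPerm.isAut = f} := ⟨_, by first | (delta Cfsg.Agent.SporadicA.GolayPerm.isAut; rewrite [Cfsg.Agent.LsF.f778dc8_13.2, Cfsg.Agent.LsF.f778dc8_10.2, Cfsg.Agent.LsF.and_eq]; exact rfl) | exact rfl⟩
private noncomputable def _root_.Cfsg.Agent.LsF.f778dc8_15 : {f // @Cfsg.Agent.SporadicStructure.M24El.ok = f} := ⟨_, by first | (delta Cfsg.Agent.SporadicStructure.M24El.ok; rewrite [Cfsg.Agent.LsF.f778dc8_11.2, Cfsg.Agent.LsF.f778dc8_14.2, Cfsg.Agent.LsF.and_eq]; exact rfl) | exact rfl⟩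
private noncomputable def _root_.Cfsg.Agent.LsF.f778dc8_16 : {f // @Cfsg.Agent.MO.S.Mat.alF = f} := ⟨_, by first | (delta Cfsg.Agent.MO.S.Mat.alF; rewrite [Cfsg.Agent.LsF.cond_eq]; exact rfl) | exact rfl⟩
private noncomputable def _root_.Cfsg.Agent.LsF.f778dc8_17 : {f // @Cfsg.Agent.MO.S.Mat.mv = f} := ⟨_, by first | (delta Cfsg.Agent.MO.S.Mat.mv; rewrite [Cfsg.Agent.LsF.cond_eq]; exact rfl) | exact rfl⟩
private noncomputable def _root_.Cfsg.Agent.LsF.f778dc8_18 : {f // @Cfsg.Agent.SporadicA.GolayBase.popcount = f} := ⟨_, by first | (delta Cfsg.Agent.SporadicA.GolayBase.popcount; rewrite [Cfsg.Agent.LsF.nadd_pat, Cfsg.Agent.LsF.nmod_pat, Cfsg.Agent.LsF.nshr_pat]; exact rfl) | exact rfl⟩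
private noncomputable def _root_.Cfsg.Agent.LsF.f778dc8_19 : {f // @Cfsg.Agent.MO.S.Mat.ddG = f} := ⟨_, by first | (delta Cfsg.Agent.MO.S.Mat.ddG; rewrite [Cfsg.Agent.LsF.f778dc8_17.2, Cfsg.Agent.LsF.f778dc8_18.2, Cfsg.Agent.LsF.or_eq, Cfsg.Agent.LsF.not_eq, Cfsg.Agent.LsF.cond_eq]; exact rfl) | exact rfl⟩
theorem dd9 : (ok 486115426764614359583170501228632096 && ok 968998678276275476877177295058804768 &&
    (cwL 12 0 0).all fun m => m == 340831 || m == 16436384 || pimg 486115426764614359583170501228632096 m != m ||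
      pimg 968998678276275476877177295058804768 m != m) = true := dd_of (by ((try (rewrite [Cfsg.Agent.LsF.f778dc8_15.2, Cfsg.Agent.LsF.f778dc8_16.2, Cfsg.Agent.LsF.f778dc8_19.2, Cfsg.Agent.LsF.and_eq])); decide +kernel))

theorem mem11 {g : M24} (h : g • fin 340831 = fin 340831) (h0 : g • pt 0 = pt 0) : g ∈ M11.inc.range :=
  M11.hmem _ fun S hS => by
    simp only [List.mem_cons, List.not_mem_nil, or_false] at hS
    rcases hS with rfl | rfl
    · exact h
    · rw [M11.fin_one, Finset.smul_finset_singleton]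
      exact congrArg _ h0

theorem n9_mem : ∀ s ∈ n9, el s ∈ M11.inc.range := fun s hs => by
  have h : ∀ s ∈ n9, pimg s 340831 = 340831 ∧ papp s 0 = 0 := by decide +kernel
  have h1 := fin24
  exact mem11 (by rw [el_smul_fin (mem_norm cl9 nr9 hs).1, (h s hs).1])
    ((el_smul_pt (mem_norm cl9 nr9 hs).1 _).trans (congrArg pt (h s hs).2))

theorem loc9 {G : Type} [Group G] [Finite G] {φ : G →* M24} (hφ : Function.Injective φ) (h1 : M11.inc.range ≤ φ.range)
    (h2 : ∀ g, φ g • pt 0 = pt 0) {m : ℕ} (hG : Nat.card G = 3 ^ 2 * m) (hm : ¬ 3 ∣ m) :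
    ∃ Q : Sylow 3 G, k0 3 (normalizer ((Q : Subgroup G) : Set G)) = 9 := by
  have := fin24
  have := Finite.of_injective _ M11.inc_inj
  have h3 : Gp g9 ≤ M11.inc.range := (closure_le _).2 (by
    rintro _ ⟨s, hs, rfl⟩
    exact n9_mem s (List.mem_append_left _ hs))
  obtain ⟨Q, hQ⟩ := exists_sylow (p := 3) (a := 2) hφ (h3.trans h1)
    (card_Gp (S := [1, 2, 3]) cl9 (by decide) (by decide +kernel)) hG hm
  have h4 := ct9
  rw [frcL_eq] at h4
  simp only [Bool.and_eq_true, decide_eq_true_eq, beq_iff_eq] at h4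
  have h5 : ∀ g, g ∈ normalizer ((Q : Subgroup G) : Set G) ↔ φ g ∈ normalizer (Gp g9 : Set M24) := fun g => by
    rw [hQ, mem_norm_comap (h3.trans h1)]
  have h6 : ∀ s ∈ g9, el s ∈ Gp g9 := fun s hs => subset_closure (k := {g | ∃ s ∈ g9, g = el s}) ⟨s, hs, rfl⟩
  obtain ⟨x, hx⟩ := h1 (h3 (h6 _ List.mem_cons_self))
  obtain ⟨x', hx'⟩ := h3 (h6 _ List.mem_cons_self)
  have h7 := (k0_loc (φ := φ) Q (S := [1, 2, 3]) (by decide) (fun a ha b hb => kg_comm cl9 (by decide) (by decide +kernel)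
    (hQ.le ha) (hQ.le hb)) (fun t ht => ?_) h4.1.1 Nat.one_pos Nat.card_pos ?_).2
  · rw [h4.1.2, h4.2] at h7
    exact ⟨Q, by omega⟩
  · obtain ⟨h7, h8, g, h9⟩ := lst_mem (K := normalizer (Gp g9 : Set M24) ⊓ φ.range)
      (fun s hs => (mem_norm cl9 nr9 hs).1) (fun s hs => ⟨(mem_norm cl9 nr9 hs).2, h1 (n9_mem s hs)⟩) ht
    exact ⟨h7, g, (h5 g).2 (h9 ▸ h8), h9⟩
  refine (card_le_cent hφ _ x (L := (lst g9 [(0, 3), (1, 3)]).filter (· != idP)) fun g hg => ?_).trans ?_
  · obtain ⟨c, hc, e⟩ := mem_Gp cl9 ((mem_normalizer_iff.1 ((h5 g).1 hg) _).1 (h6 _ List.mem_cons_self))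
    refine ⟨c, List.mem_filter.2 ⟨hc, bne_iff_ne.2 ?_⟩, by rw [map_mul, map_mul, map_inv, hx, e]⟩
    rintro rfl
    rw [el_idP, conj_eq_one_iff] at e
    have h7 := el_smul_pt (ok_of_Cl cl9 _ List.mem_cons_self) (pt 3)
    rw [e, one_smul] at h7
    exact absurd h7 (by decide +kernel)
  · rw [h4.1.2, show ((lst g9 [(0, 3), (1, 3)]).filter (· != idP)).length = 8 by decide +kernel]
    refine Nat.mul_le_mul_left 8 (le_trans ?_ (cent_of_chkR M11.inc_inj M11.hS M11.k1 hx'))
    have h7 : ∀ g : (centralizer ({x} : Set G) ⊓ normalizer ((Q : Subgroup G) : Set G) : Subgroup G),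
        ∃ y : centralizer ({x'} : Set Spor.M11), M11.inc y = φ g := fun g => by
      have h7 : ∀ s ∈ g9, ((φ g)⁻¹ * el s * φ g) • fin 340831 = fin 340831 := fun s hs => by
        obtain ⟨y, hy⟩ := h3 ((mem_normalizer_iff''.1 ((h5 g).1 g.2.2) _).1 (h6 s hs))
        exact hy ▸ M11.fixS y
      obtain ⟨y, hy⟩ := mem11 ((dodecad dd9 (h7 _ (by decide)) (h7 _ (by decide))).resolve_right fun e => by
        have h8 : φ g • pt 0 ∈ φ g • fin 340831 := Finset.smul_mem_smul_finset (by decide +kernel)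
        rw [h2, e] at h8
        exact absurd h8 (by decide +kernel)) (h2 g)
      refine ⟨⟨y, mem_centralizer_singleton_iff.2 (M11.inc_inj ?_)⟩, hy⟩
      rw [map_mul, map_mul, hy, hx', ← hx, ← map_mul, ← map_mul, mem_centralizer_singleton_iff.1 g.2.1]
    choose f hf using h7
    exact Nat.card_le_card_of_injective f fun a b e => Subtype.ext (hφ (by rw [← hf, ← hf, e]))

end Mat

open Mat

theorem m11_1_3 : SmC 3 1 Spor.M11 := by
  have := fin24
  have := Finite.of_injective _ M11.inc_inj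
  refine smC_one_inn (inn_of_index S2060.result) fun _ => ?_
  rw [k0_of_degList M11.deg]
  exact loc9 M11.inc_inj le_rfl (fun g => g.2.2) (m := 880) M11.card_eq (by decide)

theorem m23_1_3 : SmC 3 1 Spor.M23 := by
  have := fin24
  have := Finite.of_injective _ H334.Ore.M23.inc23_injective
  refine smC_one_inn (inn_of_index S2063.result) fun _ => ?_
  rw [k0_of_degList M23.deg]
  have h1 : ok 7913208655091751960291189254181431 = true := by decide +kernel
  have h2 : el 7913208655091751960291189254181431 • (none : GolayPt) = pt 0 :=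
    (el_smul_pt h1 none).trans (congrArg pt (by decide +kernel))
  refine loc9 (φ := (MulAut.conj (el 7913208655091751960291189254181431)).toMonoidHom.comp H334.Ore.M23.inc23)
    ((MulAut.conj _).injective.comp H334.Ore.M23.inc23_injective) ?_ (fun g => ?_) (m := 1133440) M23.card_eq (by decide)
  · rintro _ ⟨g, rfl⟩
    have h3 : ((el 7913208655091751960291189254181431)⁻¹ * M11.inc g * el 7913208655091751960291189254181431) •
        (none : GolayPt) = none := by
      rw [mul_smul, mul_smul, h2, inv_smul_eq_iff, h2]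
      exact g.2.2
    refine ⟨⟨_, Subtype.property _, h3⟩, ?_⟩
    change _ * ((el 7913208655091751960291189254181431)⁻¹ * M11.inc g * el 7913208655091751960291189254181431) * _⁻¹ = _
    group
  · change (_ * H334.Ore.M23.inc23 g * _⁻¹) • pt 0 = _
    rw [mul_smul, mul_smul, inv_smul_eq_iff.2 h2.symm, show H334.Ore.M23.inc23 g • (none : GolayPt) = none from g.2.2, h2]

namespace Mat

/-! ### `3^(1+2) : D8` -/

/-- the generators of `3^(1+2)` -/
def g27 : List ℕ := [934112021974167755277092929259286788, 442219401491240583911844809106721153,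
  653796642825731244719993064590000140]

/-- the element which interchanges the two dodecads -/
def uu : ℕ := 338241016257469935867513174986697905

/-- the generators of the normaliser in `M12` -/
def n12 : List ℕ := [934112021974167755277092929259286788, 442219401491240583911844809106721153,
  975639265381072135003295945605621005, 217644956185435062498802276664681516]

private noncomputable def _root_.Cfsg.Agent.LsF.f778dc8_20 : {f // @Cfsg.Agent.SporadicA.GolayPerm.pcomp = f} := ⟨_, by first | (delta Cfsg.Agent.SporadicA.GolayPerm.pcomp; rewrite [Cfsg.Agent.LsF.f778dc8_4.2, Cfsg.Agent.LsF.f778dc8_5.2]; exact rfl) | exact rfl⟩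
private noncomputable def _root_.Cfsg.Agent.LsF.f778dc8_21 : {f // @Cfsg.Agent.SporadicStructure.M24El.prodW = f} := ⟨_, by first | (delta Cfsg.Agent.SporadicStructure.M24El.prodW List.brecOn List.brecOn.go Cfsg.Agent.SporadicStructure.M24El.prodW._f; rewrite [Cfsg.Agent.LsF.f778dc8_20.2, Cfsg.Agent.LsF.getD_eq]; (try delta Cfsg.Agent.SporadicStructure.M24El.prodW.match_1); (try delta List.casesOn); first | dsimp -zeta only | exact rfl) | exact rfl⟩
private noncomputable def _root_.Cfsg.Agent.LsF.f778dc8_22 : {f // @Cfsg.Agent.MO.S.Mat.lst = f} := ⟨_, by first | (delta Cfsg.Agent.MO.S.Mat.lst; rewrite [Cfsg.Agent.LsF.f778dc8_21.2, Cfsg.Agent.LsF.f778dc8_2.2, Cfsg.Agent.LsF.map_eq]; exact rfl) | exact rfl⟩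
private noncomputable def _root_.Cfsg.Agent.LsF.f778dc8_23 : {f // @Cfsg.Agent.MO.S.Mat.Cl = f} := ⟨_, by first | (delta Cfsg.Agent.MO.S.Mat.Cl; rewrite [Cfsg.Agent.LsF.f778dc8_15.2, Cfsg.Agent.LsF.f778dc8_22.2, Cfsg.Agent.LsF.f778dc8_20.2, Cfsg.Agent.LsF.instNBEq_pat, Cfsg.Agent.LsF.and_eq, Cfsg.Agent.LsF.all_eq, Cfsg.Agent.LsF.contains_eq]; exact rfl) | exact rfl⟩
theorem cl27 : Cl g27 [(0, 3), (1, 3), (2, 3)] = true := by ((try (rewrite [Cfsg.Agent.LsF.f778dc8_23.2])); decide +kernel)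

private noncomputable def _root_.Cfsg.Agent.LsF.f778dc8_24 : {f // @Cfsg.Agent.MO.S.Mat.Nr = f} := ⟨_, by first | (delta Cfsg.Agent.MO.S.Mat.Nr; rewrite [Cfsg.Agent.LsF.f778dc8_22.2, Cfsg.Agent.LsF.f778dc8_15.2, Cfsg.Agent.LsF.f778dc8_20.2, Cfsg.Agent.LsF.instNBEq_pat, Cfsg.Agent.LsF.and_eq, Cfsg.Agent.LsF.all_eq, Cfsg.Agent.LsF.map_eq, Cfsg.Agent.LsF.contains_eq]; exact rfl) | exact rfl⟩
theorem nr27 : Nr g27 [(0, 3), (1, 3), (2, 3)] (n12 ++ [uu]) = true := by ((try (rewrite [Cfsg.Agent.LsF.f778dc8_24.2, Cfsg.Agent.LsF.lappend_pat])); decide +kernel)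

theorem ct12 : frcL (lst n12 [(0, 3), (1, 3), (2, 2), (3, 2)]) (fun T =>
    decide ((T.map (ky [3, 6, 18, 14, 19, 21])).Nodup) && T.length == 36 && cmt [3, 6, 18, 14, 19, 21] T == 324) = true :=
  ct_of (by decide +kernel)

theorem ct24 : frcL (lst (n12 ++ [uu]) [(0, 3), (1, 3), (2, 2), (3, 2), (4, 2)]) (fun T =>
    decide ((T.map (ky [3, 6, 18, 14, 19, 21])).Nodup) && T.length == 72 && cmt [3, 6, 18, 14, 19, 21] T == 648) = true :=
  ct_of (by ((try (rewrite [Cfsg.Agent.LsF.f778dc8_0.2, Cfsg.Agent.LsF.f778dc8_2.2, Cfsg.Agent.LsF.f778dc8_3.2, Cfsg.Agent.LsF.f778dc8_4.2, Cfsg.Agent.LsF.f778dc8_6.2, Cfsg.Agent.LsF.f778dc8_9.2, Cfsg.Agent.LsF.nbeq_pat, Cfsg.Agent.LsF.lappend_pat, Cfsg.Agent.LsF.and_eq, Cfsg.Agent.LsF.map_eq, Cfsg.Agent.LsF.length_eq])); decide +kernel))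

theorem dd27 : (ok 934112021974167755277092929259286788 && ok 442219401491240583911844809106721153 &&
    (cwL 12 0 0).all fun m => m == 340831 || m == 16436384 || pimg 934112021974167755277092929259286788 m != m ||
      pimg 442219401491240583911844809106721153 m != m) = true := dd_of (by decide +kernel)

theorem g27_mem : ∀ s ∈ g27, el s ∈ Gp g27 := fun s hs => subset_closure (k := {g | ∃ s ∈ g27, g = el s}) ⟨s, hs, rfl⟩

theorem le12 : Gp g27 ≤ M12.inc.range := (closure_le _).2 (by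
  rintro _ ⟨s, hs, rfl⟩
  have h : ∀ s ∈ g27, pimg s 340831 = 340831 := by decide +kernel
  exact (mem_range12 _).2 (by rw [el_smul_fin (ok_of_Cl cl27 s hs), h s hs]))

theorem z_ne : el 653796642825731244719993064590000140 ≠ 1 := fun e => by
  have h := el_smul_pt (ok_of_Cl cl27 653796642825731244719993064590000140 (by decide)) (pt 0)
  rw [e, one_smul] at h
  exact absurd h (by decide +kernel)

theorem z_eq : ⁅el 934112021974167755277092929259286788, el 442219401491240583911844809106721153⁆ =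
    el 653796642825731244719993064590000140 := by
  have h := ok_of_Cl cl27
  rw [commutatorElement_def, mul_inv_eq_iff_eq_mul, mul_inv_eq_iff_eq_mul, ← el_pcomp (h _ (by decide)) (h _ (by decide)),
    ← el_pcomp (h _ (by decide)) (h _ (by decide)), ← el_pcomp (ok_pcomp (h _ (by decide)) (h _ (by decide))) (h _ (by decide))]
  exact congrArg el (by decide +kernel)

private noncomputable def _root_.Cfsg.Agent.LsF.f778dc8_25 : {f // @Cfsg.Agent.MO.S.Mat.cm = f} := ⟨_, by first | (delta Cfsg.Agent.MO.S.Mat.cm; rewrite [Cfsg.Agent.LsF.f778dc8_5.2, Cfsg.Agent.LsF.f778dc8_6.2, Cfsg.Agent.LsF.instNBEq_pat, Cfsg.Agent.LsF.map_eq, Cfsg.Agent.LsF.instBEq_eq]; exact rfl) | exact rfl⟩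
/-- the common part -/
theorem loc27 {G : Type} [Group G] [Finite G] {φ : G →* M24} (h1 : Gp g27 ≤ φ.range) {Q : Sylow 3 G}
    (hQ : (Q : Subgroup G) = (Gp g27).comap φ) {nl : List ℕ} (h2 : ∀ s ∈ nl, s ∈ n12 ++ [uu] ∧ el s ∈ φ.range)
    {sp : List (ℕ × ℕ)} {n : ℕ} (h3 : frcL (lst nl sp) (fun T => decide ((T.map (ky [3, 6, 18, 14, 19, 21])).Nodup) &&
      T.length == n && cmt [3, 6, 18, 14, 19, 21] T == 9 * n) = true) (h0 : 0 < n)
    (hN : Nat.card (normalizer ((Q : Subgroup G) : Set G)) ≤ n * 3) :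
    Nat.card (normalizer ((Q : Subgroup G) : Set G)) = n * 3 ∧ k0 3 (normalizer ((Q : Subgroup G) : Set G)) = 9 := by
  have := fin24
  rw [frcL_eq] at h3
  simp only [Bool.and_eq_true, decide_eq_true_eq, beq_iff_eq] at h3
  have h4 := k0_loc (φ := φ) Q (S := [3, 6, 18, 14, 19, 21]) (by decide) (fun a ha b hb => kg_comm cl27 (by decide)
    (by ((try (rewrite [Cfsg.Agent.LsF.f778dc8_22.2, Cfsg.Agent.LsF.f778dc8_25.2, Cfsg.Agent.LsF.all_eq])); decide +kernel)) (hQ.le ha) (hQ.le hb)) (fun t ht => ?_) h3.1.1 (d := 3) (by decide) ?_ (h3.1.2 ▸ hN)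
  · rw [h3.1.2, h3.2] at h4
    exact ⟨h4.1, Nat.eq_of_mul_eq_mul_right h0 h4.2⟩
  · obtain ⟨h7, h8, g, h9⟩ := lst_mem (K := normalizer (Gp g27 : Set M24) ⊓ φ.range)
      (fun s hs => (mem_norm cl27 nr27 (h2 s hs).1).1) (fun s hs => ⟨(mem_norm cl27 nr27 (h2 s hs).1).2, (h2 s hs).2⟩) ht
    exact ⟨h7, g, by rw [hQ, mem_norm_comap h1, h9]; exact h8, h9⟩
  · obtain ⟨a, ha⟩ := h1 (g27_mem 934112021974167755277092929259286788 (by decide))
    obtain ⟨b, hb⟩ := h1 (g27_mem 442219401491240583911844809106721153 (by decide))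
    have h4 : ⁅a, b⁆ ∈ ⁅(Q : Subgroup G), (Q : Subgroup G)⁆ := commutator_mem_commutator
      (hQ.ge (mem_comap.2 (ha ▸ g27_mem _ (by decide)))) (hQ.ge (mem_comap.2 (hb ▸ g27_mem _ (by decide))))
    refine Nat.le_of_dvd Nat.card_pos ((Q.isPGroup'.to_le (commutator_le.2 fun a ha b hb =>
      mul_mem (mul_mem (mul_mem ha hb) (inv_mem ha)) (inv_mem hb))).card_eq_or_dvd.resolve_left fun e => ?_)
    rw [card_eq_one.1 e, mem_bot] at h4
    exact z_ne (by rw [← z_eq, ← ha, ← hb, ← map_commutatorElement, h4, map_one])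

theorem n12_mem : ∀ s ∈ n12, s ∈ n12 ++ [uu] ∧ el s ∈ M12.inc.range := fun s hs => by
  have h : ∀ s ∈ n12, pimg s 340831 = 340831 := by decide +kernel
  have := fin24
  exact ⟨List.mem_append_left _ hs, (mem_range12 _).2 (by
    rw [el_smul_fin (mem_norm cl27 nr27 (List.mem_append_left _ hs)).1, h s hs])⟩

theorem card27 : Nat.card (Gp g27) = 3 ^ 3 :=
  have := fin24
  card_Gp (S := [0, 2]) cl27 (by decide) (by (refine of_decide_eq_true ?_; (try (rewrite [Cfsg.Agent.LsF.f778dc8_6.2, Cfsg.Agent.LsF.f778dc8_22.2, Cfsg.Agent.LsF.instDecEq_eq, Cfsg.Agent.LsF.map_eq, Cfsg.Agent.LsF.dNodup_eq, Cfsg.Agent.LsF.dListEq_eq, Cfsg.Agent.LsF.decide_eq])); decide +kernel))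

theorem exists12 : ∃ Q : Sylow 3 Spor.M12, (Q : Subgroup Spor.M12) = (Gp g27).comap M12.inc :=
  have := fin24
  have := Finite.of_injective _ M12.inc_inj
  exists_sylow M12.inc_inj le12 card27 (m := 3520) M12.card_eq (by decide)

theorem loc12 {Q : Sylow 3 Spor.M12} (hQ : (Q : Subgroup Spor.M12) = (Gp g27).comap M12.inc) :
    Nat.card (normalizer ((Q : Subgroup Spor.M12) : Set Spor.M12)) = 36 * 3 ∧
      k0 3 (normalizer ((Q : Subgroup Spor.M12) : Set Spor.M12)) = 9 := by
  have := fin24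
  have := Finite.of_injective _ M12.inc_inj
  refine loc27 le12 hQ n12_mem ct12 (by decide) ?_
  have h0 := ok_of_Cl cl27
  have h1 := g27_mem 653796642825731244719993064590000140 (by decide)
  obtain ⟨z, hz⟩ := le12 h1
  refine (card_le_cent M12.inc_inj _ z (L := [653796642825731244719993064590000140,
    pcomp 653796642825731244719993064590000140 653796642825731244719993064590000140]) fun g hg => ?_).trans
    (Nat.mul_le_mul_left 2 ((card_le_of_le inf_le_left).trans (cent_of_chkR M12.inc_inj M12.hS M12.k3 hz)))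
  rw [hQ, mem_norm_comap le12] at hg
  obtain ⟨c, hc, e⟩ := mem_Gp cl27 ((mem_normalizer_iff.1 hg _).1 h1)
  have h2 : ∀ s ∈ g27, cm [0, 2] c s = true := fun s hs => by
    obtain ⟨d, hd, e'⟩ := mem_Gp cl27 ((mem_normalizer_iff''.1 hg _).1 (g27_mem s hs))
    have h2 : ∀ d ∈ lst g27 [(0, 3), (1, 3), (2, 3)], pcomp 653796642825731244719993064590000140 d =
      pcomp d 653796642825731244719993064590000140 := by decide +kernel
    have h3 := congrArg el (h2 d hd)
    rw [el_pcomp (h0 _ (by decide)) (el_mem_Gp cl27 hd).1, el_pcomp (el_mem_Gp cl27 hd).1 (h0 _ (by decide)), ← e'] at h3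
    rw [cm, beq_iff_eq, ← kg_el_mul (by decide) (el_mem_Gp cl27 hc).1 (h0 s hs),
      ← kg_el_mul (by decide) (h0 s hs) (el_mem_Gp cl27 hc).1, ← e]
    congr 1
    calc _ = M12.inc g * (el 653796642825731244719993064590000140 * ((M12.inc g)⁻¹ * el s * M12.inc g)) *
          (M12.inc g)⁻¹ := by group
      _ = _ := by rw [h3]; group
  have h3 : ∀ c ∈ lst g27 [(0, 3), (1, 3), (2, 3)], (∀ s ∈ g27, cm [0, 2] c s = true) → c = idP ∨
      c ∈ [653796642825731244719993064590000140,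
        pcomp 653796642825731244719993064590000140 653796642825731244719993064590000140] := by decide +kernel
  refine ⟨c, (h3 c hc h2).resolve_left ?_, by rw [map_mul, map_mul, map_inv, hz, e]⟩
  rintro rfl
  rw [el_idP, conj_eq_one_iff] at e
  exact z_ne e

theorem ok_uu : ok uu = true := by decide +kernel

theorem uu_mem : el uu ∈ normalizer (Gp g27 : Set M24) :=
  have := fin24
  (mem_norm cl27 nr27 (by decide)).2

theorem uu_not : el uu ∉ M12.inc.range := fun h => by
  have h1 := (mem_range12 _).1 h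
  rw [el_smul_fin ok_uu] at h1
  exact absurd h1 (by decide +kernel)

theorem rel_two : (normalizer (Gp g27 : Set M24) ⊓ M12.inc.range).relIndex (normalizer (Gp g27 : Set M24)) = 2 := by
  rw [inf_relIndex_left]
  refine index_eq_two_iff.2 ⟨⟨_, uu_mem⟩, fun b => ?_⟩
  have h1 : ∀ s ∈ g27, ((b : M24)⁻¹ * el s * b) • fin 340831 = fin 340831 := fun s hs =>
    (mem_range12 _).1 (le12 ((mem_normalizer_iff''.1 b.2 _).1 (g27_mem s hs)))
  have h2 : fin 16436384 = (fin 340831)ᶜ := by decide +kernel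
  have h3 : ((b : M24) * el uu) • fin 340831 = ((b : M24) • fin 340831)ᶜ := by
    rw [mul_smul, el_smul_fin ok_uu, show pimg uu 340831 = 16436384 by decide +kernel, h2]
    ext p
    rw [← Finset.inv_smul_mem_iff, Finset.mem_compl, Finset.mem_compl, Finset.inv_smul_mem_iff]
  change Xor ((b : M24) * el uu ∈ M12.inc.range) ((b : M24) ∈ M12.inc.range)
  rw [mem_range12, mem_range12, h3]
  rcases dodecad dd27 (h1 _ (by decide)) (h1 _ (by decide)) with e | e <;> rw [e] <;> decide +kernel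

theorem map_norm12 {Q : Sylow 3 Spor.M12} (hQ : (Q : Subgroup Spor.M12) = (Gp g27).comap M12.inc) :
    (normalizer ((Q : Subgroup Spor.M12) : Set Spor.M12)).map M12.inc = normalizer (Gp g27 : Set M24) ⊓ M12.inc.range := by
  rw [inf_comm, ← map_comap_eq, hQ]
  exact congrArg _ (Subgroup.ext (mem_norm_comap le12))

theorem loc24 : ∃ Q : Sylow 3 M24, (Q : Subgroup M24) = Gp g27 ∧ k0 3 (normalizer (Gp g27 : Set M24)) = 9 := by
  have := fin24
  obtain ⟨Q, hQ⟩ := exists_sylow (p := 3) (φ := MonoidHom.id M24) Function.injective_id (fun g _ => ⟨g, rfl⟩) card27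
    (m := 9067520) TAB.Sm2.M24.card_eq (by decide)
  refine ⟨Q, hQ, ?_⟩
  have h1 : (Q : Subgroup M24) = Gp g27 := hQ
  rw [← h1]
  refine (loc27 (fun g _ => ⟨g, rfl⟩) hQ (fun s hs => ⟨hs, _, rfl⟩) ct24 (by decide) ?_).2
  obtain ⟨R, hR⟩ := exists12
  rw [h1, ← ((normalizer (Gp g27 : Set M24) ⊓ M12.inc.range).subgroupOf _).index_mul_card,
    Nat.card_congr (subgroupOfEquivOfLe inf_le_left).toEquiv, ← map_norm12 hR, card_map_of_injective M12.inc_inj,
    (loc12 hR).1, map_norm12 hR]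
  exact (congrArg (· * _) rel_two).le

theorem fN_map {p : ℕ} {X A : Type} [Group X] [Group A] (j : X →* A) (hj : Function.Injective j) (K : Subgroup X)
    {α : MulAut X} {a : A} (h : ∀ x, j (α x) = a * j x * a⁻¹) : fN p K α = fN p (K.map j) (MulAut.conj a) := by
  refine card_congr (equivMapOfInjective K j hj) fun ψ _ => ⟨fun h1 y y' e => ?_, fun h1 y y' e => h1 _ _ ?_⟩
  · obtain ⟨z, rfl⟩ := (equivMapOfInjective K j hj).surjective y
    obtain ⟨z', rfl⟩ := (equivMapOfInjective K j hj).surjective y'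
    exact h1 _ _ (hj (e.trans (h z).symm))
  · exact (congrArg j e).trans (h y)

/-- the fixed characters of the normaliser in `M12` -/
theorem fix12 {Q : Sylow 3 Spor.M12} (hQ : (Q : Subgroup Spor.M12) = (Gp g27).comap M12.inc) {β : MulAut Spor.M12}
    (h : ∀ x, M12.inc (β x) = el uu * M12.inc x * (el uu)⁻¹) :
    fN 3 (normalizer ((Q : Subgroup Spor.M12) : Set Spor.M12)) β = 3 := by
  have := fin24
  have h1 := k0_two (p := 3) (by decide) inf_le_left rel_two uu_mem fun e => uu_not e.2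
  obtain ⟨-, -, h2⟩ := loc24
  rw [h2, ← map_norm12 hQ, ← k0_congr (equivMapOfInjective _ _ M12.inc_inj), (loc12 hQ).2,
    ← fN_map _ M12.inc_inj _ h] at h1
  omega

end Mat

theorem m24_1_3 : SmC 3 1 M24 := by
  have := fin24
  refine smC_one_inn (inn_of_index S2064.result) fun _ => ?_
  obtain ⟨Q, h1, h2⟩ := loc24
  exact ⟨Q, by rw [h1, h2, k0_of_degList TAB.Sm2.M24.deg]; rfl⟩

end Cfsg.Agent.MO.S
end

-- part: MO/S/Mat/M12
section
/-!
# MO, the Mathieu groups for `p = 3`: `M12` (helper93)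

* `exists_beta` : the outer automorphism induced by `uu`; `tab12` : the table with its representatives;
* `m12_1_3`.
-/

set_option autoImplicit false
set_option maxRecDepth 100000

namespace Cfsg.Agent.MO.S

open Cfsg Subgroup Cfsg.Agent.MO.T Cfsg.Agent.TAB.Eng Cfsg.Agent.TAB.Sm2 Cfsg.Agent.TAB.Use
open Cfsg.Agent.SporadicA.GolayBase Cfsg.Agent.SporadicA.GolayPerm Cfsg.Agent.SporadicStructure.M24El
open Cfsg.Agent.MK.S1 (fin24 mem_range12 rel_row)

namespace Mat

theorem exists_beta : ∃ β : MulAut Spor.M12, ∀ x, M12.inc (β x) = el uu * M12.inc x * (el uu)⁻¹ := by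
  have := fin24
  obtain ⟨ρ, -, hρ⟩ := MK.S1.exists_act M12.inc M12.inc_inj MK.S1.hcen12
  exact ⟨ρ ⟨_, MK.S1.norm12 ok_uu (by decide +kernel)⟩, hρ _⟩

theorem tab12 : ∃ T : TD Spor.M12 M12.dat, T.Mass ∧ T.ty 1 = 0 ∧ Tab T (mkRows M12.rA M12.rB) ∧
    (∀ v ∈ M12.rA ++ M12.rB, Virt T (nth v)) ∧ ∀ i < 14, ∀ x, M12.inc x = el (M12.cf i) → T.ty x = M12.tpL.getD i 0 := by
  have := fin24
  have := Finite.of_injective _ M12.inc_inj
  obtain ⟨T, hm, h2, h3, h4, h5⟩ := exists_T (tp := fun i => M12.tpL.getD i 0) (bx := fun t => M12.bxL.getD t (0, 0))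
    M12.inc_inj M12.inv₁ M12.inv₂ (D := M12.dat) M12.card_eq (by decide +kernel) (by decide +kernel)
    (by decide +kernel) M12.reps M12.hT (by decide +kernel) (by decide +kernel) (by decide +kernel)
  have h6 := virt_rows (T := T) M12.card_eq (fun sd hs => by
    simp only [List.mem_cons, List.not_mem_nil, or_false] at hs
    rcases hs with rfl | rfl
    · exact h2
    · exact h3) (by decide +kernel) M12.hC
  refine ⟨T, hm, h4, tab_of_rows hm h4 h6 (by decide +kernel), h6, fun i hi x hx => ?_⟩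
  obtain ⟨y, h7, h8, -⟩ := h5 i hi ((by decide +kernel : ∀ i < 14, M12.tpL.getD i 0 < M12.dat.n) i hi)
  rw [M12.inc_inj (hx.trans h7.symm), h8]

theorem ex12 {c : ℕ} (h : (ok c && pimg c 340831 == 340831) = true) : ∃ x, M12.inc x = el c := by
  rw [Bool.and_eq_true, beq_iff_eq] at h
  exact (mem_range12 _).2 (by rw [el_smul_fin h.1, h.2])

/-- the images of representatives -/
theorem beta_conj {β : MulAut Spor.M12} (h : ∀ x, M12.inc (β x) = el uu * M12.inc x * (el uu)⁻¹) {a b c : ℕ}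
    (hc : (ok c && pimg c 340831 == 340831) = true)
    (h1 : (ok a && ok b && pcomp (pcomp uu a) (pcomp uu c) == pcomp c b) = true) {x y : Spor.M12}
    (hx : M12.inc x = el a) (hy : M12.inc y = el b) : IsConj y (β x) := by
  obtain ⟨g, hg⟩ := ex12 hc
  simp only [Bool.and_eq_true, beq_iff_eq] at hc h1
  have h2 : el uu * el uu = 1 := by rw [← el_pcomp ok_uu ok_uu, ← el_idP]; exact congrArg el (by decide +kernel)
  have h3 := congrArg el h1.2
  rw [el_pcomp (ok_pcomp ok_uu h1.1.1) (ok_pcomp ok_uu hc.1), el_pcomp ok_uu h1.1.1, el_pcomp ok_uu hc.1,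
    el_pcomp hc.1 h1.1.2] at h3
  refine isConj_iff.2 ⟨g, M12.inc_inj ?_⟩
  rw [map_mul, map_mul, map_inv, h, hg, hx, hy, ← h3, inv_eq_of_mul_eq_one_right h2]
  group

theorem glob12 {β : MulAut Spor.M12} (h : ∀ x, M12.inc (β x) = el uu * M12.inc x * (el uu)⁻¹) :
    β ∉ (MulAut.conj : Spor.M12 →* MulAut Spor.M12).range ∧ f0 3 β = 3 := by
  have := fin24
  have := Finite.of_injective _ M12.inc_inj
  obtain ⟨T, -, -, ⟨χ, hE, hR⟩, -, hT⟩ := tab12
  obtain ⟨x, hx, hP⟩ := M12.reps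
  have h1 : ∀ i < 14, T.ty (x i) = M12.tpL.getD i 0 := fun i hi => hT i hi _ (hx i hi).1
  have cl : ∀ j < 15, ∀ {a b}, IsConj a b → χ j b = χ j a := fun j hj a b e => by
    obtain ⟨c, rfl⟩ := isConj_iff.1 e
    exact Characters.Core.isIrr_isClassFunction (hE.irr j hj) a c
  have h2 := beta_conj h (c := 233054201004113495629440396151036419) (by decide +kernel) (by decide +kernel)
    (hx 4 (by decide)).1 (hx 5 (by decide)).1
  have h3 := beta_conj h (c := 796032009886192990397922642351923718) (by decide +kernel) (by decide +kernel)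
    (hx 12 (by decide)).1 (hx 13 (by decide)).1
  have vl : ∀ i < 13, ∀ j < 13, (∀ z, χ j (β z) = χ i z) →
      (rw' M12.rA M12.rB j).getD 6 0 = (rw' M12.rA M12.rB i).getD 5 0 := fun i hi j hj e => by
    have h4 := e (x 4)
    rw [cl j (by omega) h2, rel_row hR hj, rel_row hR hi, h1 4 (by decide), h1 5 (by decide)] at h4
    exact Int.cast_injective h4
  have h4 : ∀ z, T.ty z = 13 → χ 13 z + χ 14 z = (-1 : ℤ) := fun z hz => by
    have h4 := MK.S1.rel_two hR (j := 0) (by decide) z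
    rwa [hz] at h4
  have h5 : χ 13 (x 13) ≠ χ 13 (x 12) := fun e => hP (12, 13) List.mem_cons_self
    (Characters.GaloisIrr.isConj_of_forall_irr fun ψ hψ => by
      obtain ⟨j, hj, rfl⟩ := hE.all _ hψ
      replace hj : j < 15 := hj
      rcases (by omega : j < 13 ∨ j = 13 ∨ j = 14) with h7 | rfl | rfl
      · rw [rel_row hR h7, rel_row hR h7, h1 12 (by decide), h1 13 (by decide)]
        rfl
      · exact e.symm
      · linear_combination h4 _ (h1 12 (by decide)) - h4 _ (h1 13 (by decide)) + e)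
  refine ⟨?_, ?_⟩
  · rintro ⟨m, e⟩
    exact absurd (vl 1 (by decide) 1 (by decide) fun z =>
      e ▸ Characters.Core.isIrr_isClassFunction (hE.irr 1 (by decide +kernel)) z m) (by decide)
  rw [f0_enum hE (q := fun j => decide (j ∈ [0, 7, 12])) fun j hj ho => ?_]
  · decide +kernel
  rw [decide_eq_true_iff]
  replace hj : j < 15 := hj
  refine ⟨fun h7 => ?_, fun h7 z => ?_⟩
  · rcases (by omega : j < 13 ∨ j = 13 ∨ j = 14) with h8 | rfl | rfl
    · exact (by decide +kernel : ∀ j < 13, ¬ 3 ∣ (mkRows M12.rA M12.rB).d j →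
        (rw' M12.rA M12.rB j).getD 6 0 = (rw' M12.rA M12.rB j).getD 5 0 → j ∈ [0, 7, 12]) j h8 ho (vl j h8 j h8 h7)
    · exact absurd ((cl 13 (by decide) h3).symm.trans (h7 _)) h5
    · refine absurd ?_ h5
      linear_combination h4 _ (h1 13 (by decide)) - h4 _ (h1 12 (by decide)) + cl 14 (by decide) h3 - h7 (x 12)
  · obtain ⟨i, hi, h8, h9⟩ := MK.T.enum_perm hE β hj
    have h10 : ∀ j ∈ [0, 7, 12], j < 13 ∧ ∀ i < 15, (mkRows M12.rA M12.rB).d i = (mkRows M12.rA M12.rB).d j → i < 13 ∧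
      ((rw' M12.rA M12.rB j).getD 6 0 = (rw' M12.rA M12.rB i).getD 5 0 → i = j ∨ (i = 5 ∧ j = 7)) := by decide +kernel
    obtain ⟨h11, h12⟩ := h10 j h7
    obtain ⟨h13, h14⟩ := h12 i hi h8
    rcases h14 (vl i h13 j h11 h9) with rfl | ⟨rfl, rfl⟩
    · exact h9 z
    · have h15 := h9 (x 4 ^ 2)
      rw [map_pow, cl 7 hj (h2.pow 2), rel_row hR h11, rel_row hR h13, T.pow, T.pow, h1 4 (by decide),
        h1 5 (by decide)] at h15
      exact absurd (Int.cast_injective h15) (by decide +kernel)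

end Mat

open Mat

theorem m12_1_3 : SmC 3 1 Spor.M12 := by
  have := fin24
  have := Finite.of_injective _ M12.inc_inj
  obtain ⟨β, h⟩ := exists_beta
  obtain ⟨Q, hQ⟩ := exists12
  refine smC_one_two (MK.T.out_cases S2061.result (glob12 h).1) fun _ => ⟨Q, fun y => ?_, ?_, ?_⟩
  · rw [hQ, mem_comap, mem_comap, h]
    exact (mem_normalizer_iff.1 uu_mem _).symm
  · rw [(loc12 hQ).2, k0_of_degList M12.deg]
    rfl
  · rw [fix12 hQ h, (glob12 h).2]

end Cfsg.Agent.MO.S
end

-- part: MO/S/Mat/Abs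
section
/-!
# MO, double covers: counting with the number of the classes (helper93)

* `enum_cnt` : orthogonal virtual rows whose norms add up to the number of the characters;
* `Dc φ z` : a double cover with the central involution `z`; `Dc.le_card` : the number of the faithful characters;
* `PP`, `card_fix`, `Dc.two_PP` : the number of the characters fixed by an automorphism as a sum over the group;
* `Dc.card_cent`, `Dc.cyc` : centralisers; `Dc.fB_split` : the local count for a split extension;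
* `exists_ind_cyc` : characters induced from a cyclic subgroup.
-/

set_option autoImplicit false

namespace Cfsg.Agent.MO.S.Mat

open Cfsg Finset Subgroup Cfsg.Agent.TAB.Eng Cfsg.Agent.Characters Cfsg.Agent.MO.S.Cov2 Cfsg.Agent.MO.T
open Cfsg.Agent.Characters.Core Cfsg.Agent.H447.CTab
open scoped ComplexConjugate

variable {X S : Type} [Group X] [Group S] {Z : Subgroup X} {l : X → ℂ}

/-- **the enumeration** from the number of the characters -/
theorem enum_cnt [Fintype X] (hZ : Z ≤ center X) (μ : Z →* ℂˣ) (hl : ∀ z : Z, l z = μ z) {k : ℕ} {m : ℕ → ℕ}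
    (f : ℕ → X → ℂ) (hv : ∀ j < k, IsGeneralizedCharacter X (f j)) (h0 : ∀ j < k, Lo Z l (f j))
    (hG : ∀ i < k, ∀ j < k, classInner (f i) (f j) = (gam m (fun _ => 0) i j : ℤ)) (e : ℕ → ℤ)
    (he : ∀ j < k, f j 1 = e j) (b : ℕ → ℤ) (hb : ∀ j < k, ∑ i ∈ range k, b i * gam m (fun _ => 0) i j = e j)
    (hN : Nat.card Z * ∑ j ∈ range k, b j * e j = Nat.card X) (hc : ∑ j ∈ range k, m j ≤ Nat.card (Ir Z l)) :
    ∃ ix, En Z l k 0 m (fun _ => 0) b f ix := by
  classical
  refine enum_core hZ μ hl ⟨fun _ _ => le_rfl, fun _ _ h => absurd rfl h, fun _ h => absurd h (by omega),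
    fun _ h => absurd h (by omega)⟩ f hv h0 hG e he b hb hN fun a hGa hf χ₀ _ => ?_
  choose d hd0 hd1 hd2 using fun χ : Ir Z l => degree_dvd χ.1
  have hda : ∀ j < k, a j ⬝ᵥ (fun χ => (d χ : ℤ)) = e j := fun j hj => by
    have h1 := (he j hj).symm.trans (hf j hj 1)
    simp only [hd1] at h1
    exact_mod_cast h1.symm
  have hdd : (fun χ => (d χ : ℤ)) ⬝ᵥ (fun χ => (d χ : ℤ)) = ∑ j ∈ range k, b j * e j := by
    have h1 := sum_sq hZ μ hl
    simp only [hd1, map_natCast] at h1
    have h2 : (Nat.card Z : ℤ) * ∑ χ, (d χ : ℤ) * d χ = Nat.card X := by exact_mod_cast h1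
    exact mul_left_cancel₀ (Nat.cast_ne_zero.2 Nat.card_pos.ne') (h2.trans hN.symm)
  have hdeg : ∀ χ, ∑ j ∈ range k, b j * a j χ = d χ := by
    have h1 : (∑ j ∈ range k, b j • a j) ⬝ᵥ (fun χ => (d χ : ℤ)) = ∑ j ∈ range k, b j * e j := by
      rw [sum_dotProduct]
      exact Finset.sum_congr rfl fun j hj => by rw [smul_dotProduct, hda j (mem_range.1 hj), smul_eq_mul]
    have h2 : (∑ j ∈ range k, b j • a j) ⬝ᵥ (∑ j ∈ range k, b j • a j) = ∑ j ∈ range k, b j * e j := by
      rw [dotProduct_sum]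
      refine Finset.sum_congr rfl fun j hj => ?_
      rw [dotProduct_smul, smul_eq_mul, ← hb j (mem_range.1 hj), sum_dotProduct]
      congr 1
      exact Finset.sum_congr rfl fun i hi => by
        rw [smul_dotProduct, hGa i (mem_range.1 hi) j (mem_range.1 hj), smul_eq_mul]
    have h3 : ((∑ j ∈ range k, b j • a j) - fun χ => (d χ : ℤ)) ⬝ᵥ ((∑ j ∈ range k, b j • a j) - fun χ => (d χ : ℤ)) = 0 := by
      rw [sub_dotProduct, dotProduct_sub, dotProduct_sub, h2, hdd, dotProduct_comm (fun χ => (d χ : ℤ)), h1]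
      ring
    intro χ
    have h4 := congrFun (dotProduct_self_eq_zero.1 h3) χ
    simp only [Pi.sub_apply, Finset.sum_apply, Pi.smul_apply, smul_eq_mul, Pi.zero_apply] at h4
    exact sub_eq_zero.1 h4
  have h1 : ∀ χ, 1 ≤ ∑ j ∈ range k, (a j χ).natAbs := fun χ => Nat.pos_of_ne_zero fun h => by
    have h2 := hdeg χ
    rw [Finset.sum_eq_zero fun j hj => by
      rw [Int.natAbs_eq_zero.1 (Finset.sum_eq_zero_iff.1 h j hj), mul_zero]] at h2
    exact (hd0 χ).ne (by exact_mod_cast h2)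
  by_contra h2
  have h3 := Finset.sum_lt_sum (s := univ) (fun χ _ => h1 χ) ⟨χ₀, mem_univ _, not_le.1 h2⟩
  rw [sum_const, card_univ, smul_eq_mul, mul_one, ← Nat.card_eq_fintype_card, Finset.sum_comm] at h3
  refine absurd ((Finset.sum_le_sum fun j hj => ?_).trans hc) h3.not_ge
  have h4 := hGa j (mem_range.1 hj) j (mem_range.1 hj)
  rw [gam, if_pos rfl] at h4
  rw [← Nat.cast_le (α := ℤ), ← h4, Nat.cast_sum]
  exact Finset.sum_le_sum fun χ _ => by
    rw [← Int.natAbs_mul_self]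
    exact_mod_cast Nat.le_mul_self _

/-- the sum of the products of two columns -/
noncomputable def PP (Z : Subgroup X) (l : X → ℂ) [Fintype (Ir Z l)] (g h : X) : ℂ :=
  ∑ χ : Ir Z l, (χ.1 : X → ℂ) g * conj ((χ.1 : X → ℂ) h)

theorem PP_congr [Fintype (Ir Z l)] {g g' h h' : X} (h1 : IsConj g g') (h2 : IsConj h h') : PP Z l g h = PP Z l g' h' :=
  Finset.sum_congr rfl fun χ _ => by
    rw [classFunction_apply_eq (isIrr_isClassFunction χ.1.2) h1, classFunction_apply_eq (isIrr_isClassFunction χ.1.2) h2]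

/-- **the number of the fixed characters** -/
theorem card_fix [Fintype X] [Fintype (Ir Z l)] (α : MulAut X) :
    (Nat.card {θ : X → ℂ // IsIrrCharacter X θ ∧ (∀ z ∈ Z, θ z = l z * θ 1) ∧ ∀ x, θ (α x) = θ x} : ℂ) =
      (Nat.card X : ℂ)⁻¹ * ∑ x, PP Z l (α x) x := by
  classical
  simp only [PP]
  rw [Nat.card_congr (β := {χ : Ir Z l // ∀ x, (χ.1 : X → ℂ) (α x) = (χ.1 : X → ℂ) x})
    ⟨fun χ => ⟨⟨⟨χ.1, χ.2.1⟩, χ.2.2.1⟩, χ.2.2.2⟩, fun χ => ⟨χ.1.1.1, χ.1.1.2, χ.1.2, χ.2⟩, fun _ => rfl, fun _ => rfl⟩,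
    Finset.sum_comm, Finset.mul_sum, Nat.card_eq_fintype_card, Fintype.card_subtype, Finset.card_filter, Nat.cast_sum]
  refine Finset.sum_congr rfl fun χ _ => ?_
  rw [← classInner_def, classInner_irr (χ := fun x => (χ.1 : X → ℂ) (α x))
    (ODD.Red.isIrr_comp' α.toMonoidHom α.surjective χ.1.2) χ.1.2, Nat.cast_ite,
    Nat.cast_one, Nat.cast_zero]
  exact if_congr funext_iff.symm rfl rfl

/-- a double cover with the central involution `z` -/
structure Dc (φ : X →* S) (z : X) : Prop where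
  surj : Function.Surjective φ
  ker : φ.ker = center X
  mem : z ∈ center X
  ne : z ≠ 1
  all : ∀ y ∈ center X, y = 1 ∨ y = z

namespace Dc

variable {φ : X →* S} {z : X} (d : Dc φ z)

include d

theorem comm (x : X) : x * z = z * x := mem_center_iff.1 d.mem x

theorem sq : z * z = 1 := (d.all _ (mul_mem d.mem d.mem)).resolve_right fun e => d.ne (mul_eq_left.1 e)

theorem map : φ z = 1 := d.ker.ge d.mem

theorem card : Nat.card (center X) = 2 :=
  (Nat.card_eq_two_iff' (1 : center X)).2 ⟨⟨z, d.mem⟩, fun e => d.ne (congrArg Subtype.val e),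
    fun y hy => Subtype.ext ((d.all y y.2).resolve_left fun e => hy (Subtype.ext e))⟩

theorem eq_or {x y : X} (h : φ x = φ y) : x = y ∨ x = z * y :=
  (d.all (x * y⁻¹) (d.ker.le (by rw [MonoidHom.mem_ker, map_mul, map_inv, h, mul_inv_cancel]))).imp
    mul_inv_eq_one.1 mul_inv_eq_iff_eq_mul.1

theorem val (hl : Fl X l) : l z = -1 := by
  obtain ⟨μ, h2, h3⟩ := hl
  have h5 : l z * l z = 1 := by
    rw [h3 ⟨z, d.mem⟩, ← Units.val_mul, ← map_mul, show (⟨z, d.mem⟩ * ⟨z, d.mem⟩ : center X) = 1 from Subtype.ext d.sq,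
      map_one, Units.val_one]
  exact (mul_self_eq_one_iff.1 h5).resolve_left fun h6 => d.ne (congrArg Subtype.val (h2 (a₁ := ⟨z, d.mem⟩) (a₂ := 1)
    (Units.ext (by rw [← h3, map_one, Units.val_one, h6]))))

variable [Finite X]

theorem odd (hl : Fl X l) (χ : Ir (center X) l) (x : X) : (χ.1 : X → ℂ) (z * x) = -(χ.1 : X → ℂ) x := by
  obtain ⟨c, hc, -⟩ := ODD.Red.exists_central χ.1.2 d.mem
  have h1 := hc 1
  rw [mul_one, χ.2 z d.mem, d.val hl] at h1
  rw [hc, ← mul_right_cancel₀ (isIrr_apply_one_ne_zero χ.1.2) h1, neg_one_mul]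

omit [Finite X] in
theorem card_eq : Nat.card X = 2 * Nat.card S := by
  rw [← d.card, ← d.ker, ← φ.ker.card_mul_index, index_ker, MonoidHom.range_eq_top.2 d.surj, card_top]

theorem card_cent {x : X} (h : ¬ IsConj x (z * x)) :
    Nat.card (centralizer ({x} : Set X)) = 2 * Nat.card (centralizer ({φ x} : Set S)) := by
  have h1 : centralizer ({x} : Set X) = (centralizer ({φ x} : Set S)).comap φ := by
    ext c
    rw [mem_comap, mem_centralizer_singleton_iff, mem_centralizer_singleton_iff, ← map_mul, ← map_mul]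
    refine ⟨congrArg φ, fun e => (d.eq_or e).resolve_right fun e' => h (isConj_iff.2 ⟨c⁻¹, ?_⟩)⟩
    have h2 : x * c = z * (c * x) := by rw [e', ← mul_assoc, d.sq, one_mul]
    rw [inv_inv, mul_assoc, h2, ← mul_assoc, d.comm, mul_assoc, inv_mul_cancel_left]
  have h2 := (centralizer ({x} : Set X)).card_mul_index
  rw [d.card_eq, ← (centralizer ({φ x} : Set S)).card_mul_index, ← index_comap_of_surjective _ d.surj, ← h1,
    ← mul_assoc] at h2
  exact Nat.eq_of_mul_eq_mul_right (Nat.pos_of_ne_zero index_ne_zero_of_finite) h2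

theorem cyc {x : X} (h : Nat.card (centralizer ({φ x} : Set S)) ≤ orderOf (φ x)) :
    ¬ IsConj x (z * x) ∧ Nat.card (centralizer ({φ x} : Set S)) = orderOf (φ x) := by
  have : Finite S := Finite.of_surjective φ d.surj
  have h1 : zpowers (φ x) = centralizer ({φ x} : Set S) :=
    eq_of_le_of_card_ge (zpowers_le.2 (mem_centralizer_singleton_iff.2 rfl)) (by rwa [Nat.card_zpowers])
  refine ⟨fun e => ?_, by rw [← h1, Nat.card_zpowers]⟩
  obtain ⟨c, hc⟩ := isConj_iff.1 e
  obtain ⟨i, hi⟩ := h1.ge (mem_centralizer_singleton_iff.2 (show φ c * φ x = φ x * φ c by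
    rw [← map_mul, mul_inv_eq_iff_eq_mul.1 hc, map_mul, map_mul, d.map, one_mul]))
  have h2 : c * x = x * c := by
    rcases d.eq_or (hi.symm.trans (map_zpow φ x i).symm) with rfl | rfl
    · exact ((Commute.refl x).zpow_left i).eq
    · exact (Commute.mul_left (d.comm x).symm ((Commute.refl x).zpow_left i)).eq
  rw [h2, mul_inv_cancel_right] at hc
  exact d.ne (mul_eq_right.1 hc.symm)

/-- **the number of the faithful characters** -/
theorem le_card (hl : Fl X l) {n : ℕ} (g : Fin n → X) (h1 : ∀ i, ¬ IsConj (g i) (z * g i))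
    (h2 : ∀ i j, i ≠ j → ¬ IsConj (φ (g i)) (φ (g j))) : n ≤ Nat.card (Ir (center X) l) := by
  obtain ⟨μ, -, hμ⟩ := hl
  have := finite_irr (G := X)
  refine (H243.RIM.card_lies_ge le_rfl μ g (fun i x hx => ?_) fun i j hij x y hy e => h2 i j hij ?_).trans
    (Nat.card_le_card_of_injective (fun χ => ⟨χ.1, fun y hy => ?_⟩) fun a b e => Subtype.ext (congrArg Subtype.val e :))
  · rcases d.all _ hx with e | e
    · rw [show (⟨_, hx⟩ : center X) = 1 from Subtype.ext e, map_one]
    · refine absurd (isConj_iff.2 ⟨x⁻¹, ?_⟩) (h1 i)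
      rw [← d.comm, ← inv_eq_of_mul_eq_one_right d.sq, ← e]
      group
  · exact isConj_iff.2 ⟨φ x, by rw [← map_inv, ← map_mul, ← map_mul, e, map_mul, d.ker.ge hy, mul_one]⟩
  · have h3 := χ.2 1 ⟨y, hy⟩
    rwa [one_mul, mul_comm, ← hμ] at h3

variable [Fintype (Ir (center X) l)]

theorem PP_left (hl : Fl X l) (g h : X) : PP (center X) l (z * g) h = -PP (center X) l g h := by
  simp only [PP, d.odd hl, neg_mul, Finset.sum_neg_distrib]

theorem PP_right (hl : Fl X l) (g h : X) : PP (center X) l g (z * h) = -PP (center X) l g h := by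
  simp only [PP, d.odd hl, map_neg, mul_neg, Finset.sum_neg_distrib]

open scoped Classical in
theorem two_PP (hl : Fl X l) (g h : X) : 2 * PP (center X) l g h =
    (if IsConj g h then (Nat.card (centralizer ({h} : Set X)) : ℂ) else 0) -
      if IsConj (z * g) h then (Nat.card (centralizer ({h} : Set X)) : ℂ) else 0 := by
  have h1 := d.val hl
  obtain ⟨μ, -, hμ⟩ := hl
  have := finite_irr (G := X)
  have := Fintype.ofFinite X
  have := Fintype.ofFinite (IrrCharacter X)
  have h3 := (MK.T.col_over le_rfl μ g h).trans (Finset.sum_eq_add_of_mem 1 ⟨z, d.mem⟩ (by simp) (by simp)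
    (fun e => d.ne (congrArg Subtype.val e).symm) fun y _ hy =>
      absurd (d.all y y.2) (not_or.2 ⟨fun e => hy.1 (Subtype.ext e), fun e => hy.2 (Subtype.ext e)⟩))
  rw [map_one, inv_one,
    Units.val_one, one_mul, OneMemClass.coe_one, mul_one, Units.val_inv_eq_inv_val, ← hμ, h1, d.card, d.comm,
    Finset.sum_subtype (p := fun χ : IrrCharacter X => ∀ y ∈ center X, (χ : X → ℂ) y = l y * (χ : X → ℂ) 1) _ (fun χ => by
      simp only [Finset.mem_filter, Finset.mem_univ, true_and]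
      exact ⟨fun h z hz => (hμ ⟨z, hz⟩).symm ▸ h ⟨z, hz⟩, fun h z => hμ z ▸ h z z.2⟩)] at h3
  rw [PP]
  by_cases h4 : IsConj g h <;> by_cases h5 : IsConj (z * g) h <;> simp only [h4, h5, if_true, if_false] at h3 ⊢ <;>
    linear_combination h3

theorem PP_self (hl : Fl X l) {x : X} (h : Nat.card (centralizer ({φ x} : Set S)) ≤ orderOf (φ x)) :
    PP (center X) l x x = orderOf (φ x) := by
  have h1 := d.two_PP hl x x
  rw [if_pos (IsConj.refl x), if_neg fun e => (d.cyc h).1 e.symm, d.card_cent (d.cyc h).1, (d.cyc h).2] at h1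
  push_cast at h1
  linear_combination h1 / 2

theorem PP_zero (hl : Fl X l) {g h : X} (e : ¬ IsConj (φ g) (φ h)) : PP (center X) l g h = 0 := by
  have h1 := d.two_PP hl g h
  rw [if_neg fun e' => e (φ.map_isConj e'), if_neg fun e' => e (by simpa [d.map] using φ.map_isConj e')] at h1
  linear_combination h1 / 2

theorem PP_neg (hl : Fl X l) (g : X) {h : X} (e : IsConj h (z * h)) : PP (center X) l g h = 0 := by
  have h1 := (PP_congr (IsConj.refl g) e).trans (d.PP_right hl g h)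
  linear_combination h1 / 2

omit [Fintype (Ir (center X) l)] in
/-- **the local count** : `K = M × Z` -/
theorem fB_split {p : ℕ} (hl : Fl X l) {K M : Subgroup X} (h1 : ∀ g ∈ K, g ∈ M ∨ z * g ∈ M) (h2 : z ∉ M)
    {α : MulAut X} {β : MulAut S} (h : ∀ x, φ (α x) = β (φ x)) (hK : ∀ x ∈ K, α x ∈ K) (hM : ∀ x, α x ∈ M ↔ x ∈ M) :
    fB p K l α = fN p (K.map φ) β := by
  classical
  let μ : K →* ℂˣ := MonoidHom.mk' (fun g => if (g : X) ∈ M then 1 else -1) fun a b => by
    by_cases ha : (a : X) ∈ M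
    · rw [if_pos ha, one_mul, Subgroup.coe_mul, mul_mem_cancel_left ha]
    by_cases hb : (b : X) ∈ M
    · rw [if_pos hb, mul_one, Subgroup.coe_mul, mul_mem_cancel_right hb]
    have h3 := mul_mem ((h1 a a.2).resolve_left ha) ((h1 b b.2).resolve_left hb)
    rw [mul_assoc, ← mul_assoc (a : X), d.comm, mul_assoc, ← mul_assoc z, d.sq, one_mul] at h3
    rw [if_neg ha, if_neg hb, if_pos (show ((a * b : K) : X) ∈ M from h3), neg_mul_neg, one_mul]
  have h3 : ∀ y : K, (y : X) ∈ center X → l y = μ y := fun y hy => by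
    change _ = ((if (y : X) ∈ M then 1 else -1 : ℂˣ) : ℂ)
    rcases d.all _ hy with e | e
    · rw [e, if_pos (one_mem M), hl.one, Units.val_one]
    · rw [e, if_neg h2, d.val hl, Units.val_neg, Units.val_one]
  have h4 : ∀ y y' : K, (y' : X) = α y → μ y' = μ y := fun y y' e => by
    change (if (y' : X) ∈ M then 1 else -1 : ℂˣ) = if (y : X) ∈ M then 1 else -1
    rw [e, if_congr (hM y) rfl rfl]
  rw [← fB_ker φ d.ker K h hK]
  exact Nat.card_congr
    { toFun := fun ψ => ⟨fun x => (μ⁻¹ x : ℂ) * ψ.1 x, Up.pi_lin_mul _ ψ.2.1, fun z hz => by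
        beta_reduce
        rw [ψ.2.2.1 z hz, h3 z hz]
        simp, fun y y' e => by
        beta_reduce
        rw [MonoidHom.inv_apply, MonoidHom.inv_apply, h4 y y' e, ψ.2.2.2 y y' e]⟩
      invFun := fun ψ => ⟨fun x => (μ x : ℂ) * ψ.1 x, Up.pi_lin_mul _ ψ.2.1, fun z hz => by
        beta_reduce
        rw [ψ.2.2.1 z hz, h3 z hz]
        simp, fun y y' e => by
        beta_reduce
        rw [h4 y y' e, ψ.2.2.2 y y' e]⟩
      left_inv := fun ψ => Subtype.ext (funext fun x => by simp)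
      right_inv := fun ψ => Subtype.ext (funext fun x => by simp) }

end Dc

open scoped Classical in
/-- a character induced from a cyclic subgroup -/
theorem exists_ind_cyc [Finite X] (y : X) {ζ : ℂ} (h : ζ ^ orderOf y = 1) : ∃ ψ : X → ℂ, IsCharacter X ψ ∧ (∀ g, ψ g =
    (Nat.card (centralizer ({g} : Set X)) : ℂ) * ((orderOf y : ℂ)⁻¹ *
      ∑ i ∈ range (orderOf y), if IsConj g (y ^ i) then ζ ^ i else 0)) ∧
      ∀ n, y ^ n ∈ center X → ∀ g, ψ (y ^ n * g) = ζ ^ n * ψ g := by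
  have := Fintype.ofFinite X
  let u := Units.ofPowEqOne ζ _ h (orderOf_pos y).ne'
  have h1 : ∀ x : zpowers y, x ∈ zpowers (⟨y, mem_zpowers y⟩ : zpowers y) := fun ⟨_, k, hk⟩ => ⟨k, Subtype.ext hk⟩
  have h2 : orderOf u ∣ orderOf (⟨y, mem_zpowers y⟩ : zpowers y) := by
    rw [Subgroup.orderOf_mk]
    exact orderOf_dvd_of_pow_eq_one (Units.ext h)
  have h3 : ∀ i : ℕ, (monoidHomOfForallMemZpowers h1 h2 (⟨y, mem_zpowers y⟩ ^ i) : ℂ) = ζ ^ i := fun i => by
    rw [map_pow, monoidHomOfForallMemZpowers_apply_gen]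
    rfl
  refine ⟨_, Brauer.isCharacter_indFun (zpowers y) (Linear.isCharacter_hom (monoidHomOfForallMemZpowers h1 h2)),
    fun g => ?_, fun n hn g => ?_⟩
  · rw [H608.PerfInd.indFun_eq_sum, Nat.card_zpowers, ← (finEquivZPowers (isOfFinOrder_of_finite y)).sum_comp,
      Finset.sum_range]
    refine congrArg _ (congrArg _ (Finset.sum_congr rfl fun i _ => ?_))
    rw [show finEquivZPowers (isOfFinOrder_of_finite y) i = ⟨y, mem_zpowers y⟩ ^ (i : ℕ) from rfl, h3]
    congr
  · rw [indFun_apply, indFun_apply, mul_left_comm, Finset.mul_sum (a := ζ ^ n)]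
    refine congrArg _ (Finset.sum_congr rfl fun x _ => ?_)
    rw [← mul_assoc, mem_center_iff.1 hn x⁻¹, mul_assoc, mul_assoc, ← mul_assoc x⁻¹]
    by_cases h4 : x⁻¹ * g * x ∈ zpowers y
    · rw [extendByZero_of_mem _ _ h4, extendByZero_of_mem _ _ (mul_mem (pow_mem (mem_zpowers y) n) h4), ← h3,
        ← Units.val_mul, ← map_mul]
      rfl
    · rw [extendByZero_of_notMem _ _ h4, extendByZero_of_notMem _ _ fun e =>
        h4 ((mul_mem_cancel_left (pow_mem (mem_zpowers y) n)).1 e), mul_zero]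

theorem card_cent_conj {x y : X} (h : IsConj x y) :
    Nat.card (centralizer ({x} : Set X)) = Nat.card (centralizer ({y} : Set X)) := by
  obtain ⟨c, rfl⟩ := isConj_iff.1 h
  exact Nat.card_congr (Equiv.subtypeEquiv (MulAut.conj c).toEquiv fun g => by
    rw [mem_centralizer_singleton_iff, mem_centralizer_singleton_iff, ← (MulAut.conj c).injective.eq_iff, map_mul,
      map_mul]
    rfl)

theorem order_conj {x y : X} (h : IsConj x y) : orderOf x = orderOf y := by
  obtain ⟨c, rfl⟩ := isConj_iff.1 h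
  exact ((MulAut.conj c).orderOf_eq x).symm

theorem card_split {α : Type} (A q : α → Prop) [Finite {a // A a}] :
    Nat.card {a // A a} = Nat.card {a // A a ∧ q a} + Nat.card {a // A a ∧ ¬ q a} := by
  classical
  rw [← Nat.card_congr (Equiv.sumCompl fun a : {a // A a} => q a), Nat.card_sum,
    Nat.card_congr (Equiv.subtypeSubtypeEquivSubtypeInter A q),
    Nat.card_congr (Equiv.subtypeSubtypeEquivSubtypeInter A fun a => ¬ q a)]

theorem char_fix {ι : Type} [Fintype ι] [DecidableEq ι] (f : X →* Equiv.Perm ι) :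
    IsCharacter X fun g => ((univ.filter fun i => f g i = i).card : ℂ) := by
  have h := isCharacter_comp f (S0157.isCharacter_fixedBy (G := Equiv.Perm ι) ι)
  convert h using 2 with g
  rw [← Fintype.card_subtype, ← Nat.card_eq_fintype_card]
  rfl

end Cfsg.Agent.MO.S.Mat
end

private theorem dce_c2441897b3ae : _root_.True := by
  try have : _root_.True := by simp only [_root_.Cfsg.Agent.MO.S.Mat.PP.eq_1]
  exact _root_.True.intro
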